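import Groth.Agent.KerSysImmLib.Sections
import Groth.Agent.AmpleThLib.Embed
import Groth.Agent.AmpleThLib.Restr
import Groth.Agent.PicPnLib.BaseChange

/-!
# Immersions by sections vanishing on a closed subscheme
-/

set_option autoImplicit false
set_option backward.isDefEq.respectTransparency false
set_option backward.isDefEq.respectTransparency.types false
universe u

open CategoryTheory CategoryTheory.Limits AlgebraicGeometry TopologicalSpace Opposite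
open AmpleLib AmpleThLib
open TwistLib (genSet)
open KFlatLib (pb puSec)

noncomputable section

namespace KerSysImmLib

variable {X : Scheme.{u}}

/-- The restriction of a global section to an open subscheme. -/
def rs {M : X.Modules} (U : X.Opens) (v : Γ(M, ⊤)) : Γ(M.restrict U.ι, ⊤) :=
  res M (le_top : U.ι ''ᵁ ⊤ ≤ ⊤) v

theorem rGen_smul {M : X.Modules} (U : X.Opens) {T : X.Opens} (c : Γ(X, T)) (m : Γ(M, T)) :
    U.ι.app T c • (rGen U.ι m : Γ(M.restrict U.ι, U.ι ⁻¹ᵁ T)) = rGen U.ι (c • m) := by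
  change (show Γ(X, U.ι ''ᵁ (U.ι ⁻¹ᵁ T)) from (U.ι.appIso _).inv (U.ι.app T c)) •
    res M (U.ι.image_preimage_le T) m = res M (U.ι.image_preimage_le T) (c • m)
  rw [← CommRingCat.comp_apply, Scheme.Hom.app_appIso_inv, res_smul]
  rfl

theorem res_rs {M : X.Modules} (U : X.Opens) (T : X.Opens) (v : Γ(M, ⊤)) :
    res (M.restrict U.ι) (le_top : U.ι ⁻¹ᵁ T ≤ ⊤) (rs U v) = rGen U.ι (res M le_top v) := by
  change res M _ (res M _ v) = res M _ (res M _ v)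
  rw [res_res, res_res]

theorem genSet_rs {M : X.Modules} (hM : PicF.IsInvertible M) (U : X.Opens) (v : Γ(M, ⊤)) :
    genSet (restrict_isInvertible hM U.ι) (rs U v) = U.ι ⁻¹ᵁ genSet hM v := by
  ext y
  obtain ⟨W, e, hyW, he⟩ := TwistLib.exists_genOn hM (U.ι y)
  obtain ⟨r, hr⟩ := exists_coeff v he
  have hr' : U.ι.app W r • (rGen U.ι e : Γ(M.restrict U.ι, U.ι ⁻¹ᵁ W)) =
      res (M.restrict U.ι) le_top (rs U v) := by
    rw [rGen_smul, hr, res_rs]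
  have h1 := SetLike.ext_iff.mp (mem_genSet_coeff hM v he hr) (U.ι y)
  have h2 := SetLike.ext_iff.mp (mem_genSet_coeff (restrict_isInvertible hM U.ι) (rs U v)
    (he.restrict U.ι (U.ι ⁻¹ᵁ W) (U.ι.image_preimage_le W)) hr') y
  rw [← Scheme.preimage_basicOpen] at h2
  simp only [Opens.mem_inf, hyW, and_true] at h1
  simp only [Opens.mem_inf, show y ∈ U.ι ⁻¹ᵁ W from hyW, and_true] at h2
  exact h2.trans h1.symm

theorem rs_sum {M : X.Modules} (U : X.Opens) {ι : Type*} (s : Finset ι) (v : ι → Γ(M, ⊤)) :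
    rs U (s.sum v) = s.sum fun a => rs U (v a) :=
  map_sum (M.presheaf.map (homOfLE (le_top : U.ι ''ᵁ ⊤ ≤ ⊤)).op).hom v s

theorem rs_smul {M : X.Modules} (U : X.Opens) (a : Γ(X, ⊤)) (v : Γ(M, ⊤)) :
    rs U (a • v) = (show Γ((U : Scheme.{u}), ⊤) from U.ι.app ⊤ a) • rs U v := by
  have h := rGen_smul U a v
  exact h.symm

variable {k : Type u} [Field k] (f : X ⟶ Spec (CommRingCat.of k)) {Z : Scheme.{u}} (i : Z ⟶ X)

theorem exists_finset_generators [LocallyOfFiniteType f] {T : X.Opens} (hT : IsAffineOpen T) :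
    ∃ G : Finset Γ(X, T),
      Subring.closure (Set.range (f.appLE ⊤ T le_top).hom ∪ (G : Set Γ(X, T))) = ⊤ := by
  classical
  letI : Algebra Γ(Spec (CommRingCat.of k), ⊤) Γ(X, T) := (f.appLE ⊤ T le_top).hom.toAlgebra
  haveI : Algebra.FiniteType Γ(Spec (CommRingCat.of k), ⊤) Γ(X, T) :=
    f.finiteType_appLE (isAffineOpen_top _) hT le_top
  obtain ⟨G, hG⟩ := (Algebra.FiniteType.out (R := Γ(Spec (CommRingCat.of k), ⊤)) (A := Γ(X, T)))
  refine ⟨G, ?_⟩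
  have h := congrArg Subalgebra.toSubring hG
  rw [Algebra.adjoin_eq_ring_closure, Algebra.top_toSubring] at h
  exact h

variable {r : ℕ}

/-- A linear form as a section of `O(1)`. -/
def lform (c : Fin (r + 1) → k) : Γ(Twist.twistProjSpace r k 1, ⊤) :=
  ∑ j, ProjUP.toGlobal (CohB1.ProjSpace.toSpec r k) (c j) • ProjUP.coord r k j

theorem toGlobal_comp {A B : Scheme.{u}} (g : A ⟶ B) (q : B ⟶ Spec (CommRingCat.of k)) (a : k) :
    g.app ⊤ (ProjUP.toGlobal q a) = ProjUP.toGlobal (g ≫ q) a := rfl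

theorem pull_lform {M : X.Modules} (U : X.Opens) (φ : (U : Scheme.{u}) ⟶ CohB1.ProjSpace r k)
    (hφ : φ ≫ CohB1.ProjSpace.toSpec r k = U.ι ≫ f)
    (τ : (Scheme.Modules.pullback φ).obj (Twist.twistProjSpace r k 1) ≅ M.restrict U.ι)
    (s : Fin (r + 1) → Γ(M, ⊤))
    (hτ : ∀ j, τ.hom.app ⊤ (puSec φ (U := ⊤) (ProjUP.coord r k j)) = rs U (s j))
    (c : Fin (r + 1) → k) :
    τ.hom.app ⊤ (puSec φ (U := ⊤) (lform c)) = rs U (∑ j, ProjUP.toGlobal f (c j) • s j) := by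
  rw [rs_sum, lform]
  have h1 : puSec φ (U := ⊤) (∑ j, ProjUP.toGlobal (CohB1.ProjSpace.toSpec r k) (c j) • ProjUP.coord r k j) =
      ∑ j, puSec φ (U := ⊤) (ProjUP.toGlobal (CohB1.ProjSpace.toSpec r k) (c j) • ProjUP.coord r k j) :=
    map_sum (((Scheme.Modules.pullbackPushforwardAdjunction φ).unit.app (Twist.twistProjSpace r k 1)).val.app
      (op ⊤)).hom _ _
  rw [h1]
  refine (map_sum (τ.hom.app ⊤).hom _ _).trans (Finset.sum_congr rfl fun j _ => ?_)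
  rw [TwistLib.puSec_smul, rs_smul, ← hτ j]
  refine (Scheme.Modules.Hom.app_smul τ.hom _ _).trans ?_
  congr 1
  change φ.app ⊤ (ProjUP.toGlobal (CohB1.ProjSpace.toSpec r k) (c j)) = U.ι.app ⊤ (ProjUP.toGlobal f (c j))
  rw [toGlobal_comp, toGlobal_comp, hφ]

/-- The immersion criterion. -/
theorem isImmersion_of_ratios {M : X.Modules} (hM : PicF.IsInvertible M) (U : X.Opens)
    (Vn : Γ(M, ⊤) → Prop) (s : Fin (r + 1) → Γ(M, ⊤))
    (hspan : ∀ v, Vn v → ∃ c : Fin (r + 1) → k, v = ∑ j, ProjUP.toGlobal f (c j) • s j)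
    (φ : (U : Scheme.{u}) ⟶ CohB1.ProjSpace r k) (hφ : φ ≫ CohB1.ProjSpace.toSpec r k = U.ι ≫ f)
    (τ : (Scheme.Modules.pullback φ).obj (Twist.twistProjSpace r k 1) ≅ M.restrict U.ι)
    (hτ : ∀ j, τ.hom.app ⊤ (puSec φ (U := ⊤) (ProjUP.coord r k j)) = rs U (s j))
    (hT : ∀ x ∈ U, ∃ s₁, Vn s₁ ∧ x ∈ genSet hM s₁ ∧ genSet hM s₁ ≤ U ∧ IsAffineOpen (genSet hM s₁) ∧
      ∃ G : Finset Γ(X, genSet hM s₁),
        Subring.closure (Set.range (f.appLE ⊤ (genSet hM s₁) le_top).hom ∪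
          (G : Set Γ(X, genSet hM s₁))) = ⊤ ∧
        ∀ a ∈ G, ∃ v, Vn v ∧ a • res M le_top s₁ = res M (le_top : genSet hM s₁ ≤ ⊤) v) :
    IsImmersion φ := by
  have hO : PicF.IsInvertible (Twist.twistProjSpace r k 1) := PicPnLib.twist_inv r k 1
  let D : Fin (r + 1) → (CohB1.ProjSpace r k).Opens := fun j =>
    Proj.basicOpen (CohB1.polyGrading r k) (MvPolynomial.X j)
  have hD : ∀ j, genSet hO (ProjUP.coord r k j) = D j := fun j => AffBlowLib.genSet_coord r hO j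
  choose s₁ hs₁ hxT hTU hTaff G hG hv using hT
  choose c₁ hc₁ using fun (x : X) (hx : x ∈ U) => hspan _ (hs₁ x hx)
  let O : ∀ (x : X), x ∈ U → (CohB1.ProjSpace r k).Opens := fun x hx => genSet hO (lform (c₁ x hx))
  have hpre : ∀ x hx, φ ⁻¹ᵁ O x hx = U.ι ⁻¹ᵁ genSet hM (s₁ x hx) := fun x hx => by
    rw [← genSet_rs hM U (s₁ x hx), hc₁ x hx, ← pull_lform f U φ hφ τ s hτ (c₁ x hx)]
    exact (AmpleDevLib.genSet_puSec φ hO _).symm.trans
      (AmpleThLib.genSet_iso (AmpleDevLib.isInvertible_pb φ hO) (restrict_isInvertible hM U.ι) τ _).symm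
  refine isImmersion_of_local φ (fun p : U × Fin (r + 1) => O p.1.1 p.1.2 ⊓ D p.2)
    (fun y => ?_) (fun ⟨⟨x, hx⟩, j⟩ => ?_)
  · obtain ⟨j, hj⟩ := Opens.mem_iSup.mp (show φ y ∈ ⨆ m, D m by
      rw [show (⨆ m, D m) = ⊤ from QCohLib.iSup_stdOpen r k]; trivial)
    refine ⟨⟨y, j⟩, ?_, hj⟩
    have : y ∈ U.ι ⁻¹ᵁ genSet hM (s₁ y.1 y.2) := hxT y.1 y.2
    rw [← hpre] at this
    exact this
  let O₁ := O x hx
  let σ₁ := lform (c₁ x hx)
  let T := genSet hM (s₁ x hx)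
  have hDaff : IsAffineOpen (D j) :=
    Proj.isAffineOpen_basicOpen _ _ (MvPolynomial.isHomogeneous_X _ j) one_pos
  obtain ⟨b, hb⟩ := exists_coeff σ₁ (TwistLib.genSet_genOn hO (ProjUP.coord r k j))
  have hOD : IsAffineOpen (O₁ ⊓ D j) := by
    rw [← hD j, mem_genSet_coeff hO σ₁ (TwistLib.genSet_genOn hO (ProjUP.coord r k j)) hb]
    exact ((hD j).symm ▸ hDaff : IsAffineOpen (genSet hO (ProjUP.coord r k j))).basicOpen b
  have hg₁ : GenOn _ (res (Twist.twistProjSpace r k 1) (le_top : O₁ ≤ ⊤) σ₁) := TwistLib.genSet_genOn hO σ₁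
  obtain ⟨q, hq⟩ := exists_coeff (ProjUP.coord r k j) hg₁
  have hbq : O₁ ⊓ D j = (CohB1.ProjSpace r k).basicOpen q := by
    rw [← hD j, inf_comm]; exact mem_genSet_coeff hO _ hg₁ hq
  have hTU' : T ≤ U := hTU x hx
  have hpT : IsAffineOpen (U.ι ⁻¹ᵁ T) := (hTaff x hx).preimage_of_isOpenImmersion U.ι (by
    rw [Scheme.Opens.opensRange_ι]; exact hTU')
  have hW : φ ⁻¹ᵁ (O₁ ⊓ D j) = (U : Scheme.{u}).basicOpen (φ.app O₁ q) := by
    rw [hbq, Scheme.preimage_basicOpen]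
  have hWaff : IsAffineOpen (φ ⁻¹ᵁ (O₁ ⊓ D j)) := by
    rw [hW]
    exact ((hpre x hx).symm ▸ hpT : IsAffineOpen (φ ⁻¹ᵁ O₁)).basicOpen _
  have : IsAffine (φ ⁻¹ᵁ (O₁ ⊓ D j)).toScheme := hWaff
  have : IsAffine (O₁ ⊓ D j).toScheme := hOD
  refine IsClosedImmersion.of_surjective_of_isAffine _ ?_
  rw [Scheme.Hom.appTop, morphismRestrict_app']
  refine surjective_appLE_congr φ (O₁ ⊓ D j).ι_image_top.symm (Scheme.Opens.ι_image_top _).symm le_rfl _ ?_
  let W := φ ⁻¹ᵁ (O₁ ⊓ D j)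
  let R := (φ.appLE (O₁ ⊓ D j) W le_rfl).hom.range
  have hWO : W ≤ φ ⁻¹ᵁ O₁ := fun y hy => hy.1
  have hWT : W ≤ U.ι ⁻¹ᵁ T := hWO.trans (hpre x hx).le
  let ρ : Γ(X, T) →+* Γ(U, W) := (U.ι.appLE T W hWT).hom
  have hρR : ∀ a, ρ a ∈ R := by
    intro a₀
    suffices h : a₀ ∈ R.comap ρ from h
    refine (show Subring.closure _ ≤ R.comap ρ from Subring.closure_le.mpr ?_)
      ((hG x hx).ge (Subring.mem_top a₀))
    rintro a (⟨y, rfl⟩ | ha)
    · refine ⟨(CohB1.ProjSpace.toSpec r k).appLE ⊤ (O₁ ⊓ D j) le_top y, ?_⟩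
      change _ = U.ι.appLE T W hWT (f.appLE ⊤ T le_top y)
      rw [← CommRingCat.comp_apply, ← CommRingCat.comp_apply, Scheme.Hom.appLE_comp_appLE,
        Scheme.Hom.appLE_comp_appLE]
      simp only [hφ]
    · obtain ⟨v, hv1, hv2⟩ := hv x hx a ha
      obtain ⟨cv, hcv⟩ := hspan v hv1
      obtain ⟨qv, hqv⟩ := exists_coeff (lform cv) hg₁
      refine ⟨(CohB1.ProjSpace r k).presheaf.map (homOfLE (inf_le_left : O₁ ⊓ D j ≤ O₁)).op qv, ?_⟩
      have hgT : GenOn (M.restrict U.ι) (res (M.restrict U.ι) (le_top : U.ι ⁻¹ᵁ T ≤ ⊤) (rs U (s₁ x hx))) := by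
        rw [res_rs]
        exact (TwistLib.genSet_genOn hM (s₁ x hx)).restrict U.ι _ (U.ι.image_preimage_le T)
      have h1 : ∀ cc : Fin (r + 1) → k, τ.hom.app (φ ⁻¹ᵁ O₁) (puSec φ
          (res (Twist.twistProjSpace r k 1) (le_top : O₁ ≤ ⊤) (lform cc))) =
          res (M.restrict U.ι) (le_top : φ ⁻¹ᵁ O₁ ≤ ⊤) (rs U (∑ l, ProjUP.toGlobal f (cc l) • s l)) := fun cc => by
        rw [← pull_lform f U φ hφ τ s hτ cc, TwistLib.puSec_res]
        exact NatTrans.naturality_apply τ.hom.mapPresheaf (homOfLE (le_top : φ ⁻¹ᵁ O₁ ≤ ⊤)).op _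
      have h2 : φ.app O₁ qv • res (M.restrict U.ι) (le_top : φ ⁻¹ᵁ O₁ ≤ ⊤) (rs U (s₁ x hx)) =
          res (M.restrict U.ι) (le_top : φ ⁻¹ᵁ O₁ ≤ ⊤) (rs U v) := by
        rw [hc₁ x hx, hcv, ← h1 (c₁ x hx), ← h1 cv, ← hqv, TwistLib.puSec_smul]
        exact (Scheme.Modules.Hom.app_smul τ.hom _ _).symm
      have h3 : U.ι.app T a • res (M.restrict U.ι) (le_top : U.ι ⁻¹ᵁ T ≤ ⊤) (rs U (s₁ x hx)) =
          res (M.restrict U.ι) (le_top : U.ι ⁻¹ᵁ T ≤ ⊤) (rs U v) := by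
        rw [res_rs, res_rs, rGen_smul, hv2]
      have h2' := congrArg (res (M.restrict U.ι) hWO) h2
      have h3' := congrArg (res (M.restrict U.ι) hWT) h3
      rw [res_smul, res_res, res_res] at h2' h3'
      refine ((hgT.res hWT) W le_rfl).1 ?_
      dsimp only
      rw [res_refl, res_res]
      refine Eq.trans ?_ (Eq.trans (h2'.trans h3'.symm) ?_)
      · congr 1
        rw [← CommRingCat.comp_apply, Scheme.Hom.map_appLE, Scheme.Hom.app_eq_appLE]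
        rw [← CommRingCat.comp_apply, Scheme.Hom.appLE_map]
      · congr 1
  intro z
  suffices h : z ∈ R from h
  have hloc := ((hpre x hx).symm ▸ hpT : IsAffineOpen (φ ⁻¹ᵁ O₁)).isLocalization_of_eq_basicOpen
    (φ.app O₁ q) (homOfLE hWO) hW
  letI := ((U : Scheme.{u}).presheaf.map (homOfLE hWO).op).hom.toAlgebra
  obtain ⟨⟨a, ⟨_, m, rfl⟩⟩, ha⟩ := IsLocalization.surj (Submonoid.powers (φ.app O₁ q)) z
  let qW : Γ((CohB1.ProjSpace r k), O₁ ⊓ D j) :=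
    (CohB1.ProjSpace r k).presheaf.map (homOfLE (inf_le_left : O₁ ⊓ D j ≤ O₁)).op q
  have hunit : IsUnit qW := by
    have h := RingedSpace.isUnit_res_basicOpen (CohB1.ProjSpace r k).toRingedSpace q
    have e : ∀ (A B : (CohB1.ProjSpace r k).Opens) (e : A = B) (hA : A ≤ O₁) (hB : B ≤ O₁),
        IsUnit ((CohB1.ProjSpace r k).presheaf.map (homOfLE hB).op q) →
        IsUnit ((CohB1.ProjSpace r k).presheaf.map (homOfLE hA).op q) := by
      intro A B e hA hB h; subst e; exact h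
    exact e _ _ hbq inf_le_left (Scheme.basicOpen_le _ _) h
  obtain ⟨w, hw⟩ := isUnit_iff_exists_inv.mp hunit
  have hqW : φ.appLE (O₁ ⊓ D j) W le_rfl qW = algebraMap Γ(U, φ ⁻¹ᵁ O₁) Γ(U, W) (φ.app O₁ q) := by
    change _ = (U : Scheme.{u}).presheaf.map (homOfLE hWO).op (φ.app O₁ q)
    rw [← CommRingCat.comp_apply, Scheme.Hom.map_appLE, Scheme.Hom.app_eq_appLE, ← CommRingCat.comp_apply,
      Scheme.Hom.appLE_map]
  have haR : algebraMap Γ(U, φ ⁻¹ᵁ O₁) Γ(U, W) a ∈ R := by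
    haveI : IsIso (U.ι.app T) := Scheme.Hom.isIso_app U.ι T (by rw [Scheme.Opens.opensRange_ι]; exact hTU')
    obtain ⟨a', ha'⟩ := (ConcreteCategory.bijective_of_isIso (U.ι.app T)).2
      ((U : Scheme.{u}).presheaf.map (homOfLE (hpre x hx).ge).op a)
    have he : algebraMap Γ(U, φ ⁻¹ᵁ O₁) Γ(U, W) a = ρ a' := by
      change _ = U.ι.appLE T W hWT a'
      rw [show U.ι.appLE T W hWT a' = (U : Scheme.{u}).presheaf.map (homOfLE hWT).op (U.ι.app T a') from rfl, ha',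
        ← CommRingCat.comp_apply, ← Functor.map_comp]
      rfl
    rw [he]
    exact hρR a'
  have hz : z = algebraMap Γ(U, φ ⁻¹ᵁ O₁) Γ(U, W) a * φ.appLE (O₁ ⊓ D j) W le_rfl (w ^ m) := by
    rw [← ha, map_pow, map_pow, mul_assoc, ← hqW, ← mul_pow, ← map_mul, hw, map_one, one_pow, mul_one]
  rw [hz]
  exact R.mul_mem haR ⟨_, rfl⟩

end KerSysImmLib

end
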