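import Groth.Agent.KerSysImmLib.Immersion

/-!
# Kernel systems of high powers of ample modules
-/

set_option autoImplicit false
set_option backward.isDefEq.respectTransparency false
set_option backward.isDefEq.respectTransparency.types false
universe u

open CategoryTheory CategoryTheory.Limits AlgebraicGeometry TopologicalSpace Opposite
open AmpleLib AmpleThLib
open TwistLib (genSet)
open KFlatLib (pb puSec)

noncomputable section

namespace KerSysImmLib

variable {k : Type u} [Field k] {X Z : Scheme.{u}}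

/-- In all large degrees the sections vanishing on `Z` have affine loci covering the complement, with
all ratios. -/
theorem exists_bound (f : X ⟶ Spec (CommRingCat.of k)) [IsProper f] {L : X.Modules} (hLa : CohB1.IsAmple L)
    (i : Z ⟶ X) [IsClosedImmersion i] (U : X.Opens) (hU : (U : Set X) = (Set.range i.base)ᶜ) :
    ∃ n₀ : ℕ, ∀ n, n₀ ≤ n → ∀ x ∈ U, ∃ s₁ : Γ(CohB1.tensorPow L n, ⊤),
      (puSec i s₁ : Γ(pb i (CohB1.tensorPow L n), i ⁻¹ᵁ ⊤)) = 0 ∧
      x ∈ genSet (tensorPow_isInvertible hLa.1 n) s₁ ∧ genSet (tensorPow_isInvertible hLa.1 n) s₁ ≤ U ∧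
      IsAffineOpen (genSet (tensorPow_isInvertible hLa.1 n) s₁) ∧
      ∃ G : Finset Γ(X, genSet (tensorPow_isInvertible hLa.1 n) s₁),
        Subring.closure (Set.range (f.appLE ⊤ (genSet (tensorPow_isInvertible hLa.1 n) s₁) le_top).hom ∪
          (G : Set Γ(X, genSet (tensorPow_isInvertible hLa.1 n) s₁))) = ⊤ ∧
        ∀ a ∈ G, ∃ v, (puSec i v : Γ(pb i (CohB1.tensorPow L n), i ⁻¹ᵁ ⊤)) = 0 ∧
          a • res (CohB1.tensorPow L n) le_top s₁ =
            res (CohB1.tensorPow L n) (le_top : genSet (tensorPow_isInvertible hLa.1 n) s₁ ≤ ⊤) v := by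
  classical
  have hL := hLa.1
  haveI : CompactSpace X := hLa.2.1
  haveI : IsLocallyNoetherian X := LocallyOfFiniteType.isLocallyNoetherian f
  haveI : IsNoetherian X := {}
  haveI : CompactSpace Z := QuasiCompact.compactSpace_of_compactSpace i
  haveI : QuasiSeparatedSpace X := inferInstance
  have hloc : ∀ x : U, ∃ (d : ℕ) (t : Γ(CohB1.tensorPow L d, ⊤)), 0 < d ∧
      (puSec i t : Γ(pb i (CohB1.tensorPow L d), i ⁻¹ᵁ ⊤)) = 0 ∧
      x.1 ∈ genSet (tensorPow_isInvertible hL d) t ∧ genSet (tensorPow_isInvertible hL d) t ≤ U ∧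
      IsAffineOpen (genSet (tensorPow_isInvertible hL d) t) ∧
      ∃ e : Γ(L, genSet (tensorPow_isInvertible hL d) t), GenOn L e := by
    intro x
    obtain ⟨W, e, hxW, he⟩ := TwistLib.exists_genOn hL x.1
    obtain ⟨d, V, hd, ⟨t, rfl⟩, hxV, hV, hVle⟩ := exists_locus_le hL hLa (W := W ⊓ U) (x := x.1) ⟨hxW, x.2⟩
    obtain ⟨M, hM⟩ := exists_tPow_vanish i hL t fun z hz => by
      have hzU : i z ∈ (U : Set X) := (hVle hz).2
      rw [hU] at hzU
      exact hzU ⟨z, rfl⟩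
    have hg : genSet (tensorPow_isInvertible hL (d * (M + 1))) (tPow hL t (M + 1)) =
        genSet (tensorPow_isInvertible hL d) t := by
      refine le_antisymm (fun y hy => ?_) fun y hy => ?_
      · obtain ⟨U', e', hyU, he'⟩ := TwistLib.exists_genOn hL y
        obtain ⟨r, hr⟩ := exists_coeff t (pS_genOn he' d)
        have h1 := (mem_genSet_coeff (tensorPow_isInvertible hL _) _ (pS_genOn he' _)
          (tPow_coeff hL t he' hr (M + 1))).le ⟨hy, hyU⟩
        rw [X.basicOpen_pow r (Nat.succ_pos M)] at h1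
        exact ((mem_genSet_coeff (tensorPow_isInvertible hL d) t (pS_genOn he' d) hr).ge h1).1
      · exact (genAt_res _ _ hy).mp ((tPow_genOn hL t le_rfl (M + 1)).genAt hy)
    refine ⟨d * (M + 1), tPow hL t (M + 1), Nat.mul_pos hd (Nat.succ_pos M), hM, hg ▸ hxV,
      hg ▸ hVle.trans inf_le_right, hg ▸ hV, ?_⟩
    rw [hg]
    exact ⟨res L (hVle.trans inf_le_left) e, he.res _⟩
  choose d t hd hti hxt htU htaff e he using hloc
  obtain ⟨S, hS⟩ := (NoetherianSpace.isCompact (U : Set X)).elim_finite_subcover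
    (fun x : U => (genSet (tensorPow_isInvertible hL (d x)) (t x) : Set X))
    (fun x => (genSet _ _).2) fun x hx => Set.mem_iUnion.mpr ⟨⟨x, hx⟩, hxt ⟨x, hx⟩⟩
  choose G hG using fun x : U => exists_finset_generators f (htaff x)
  choose N hN using fun x : U => exists_sections i hL (hd x) (t x) (hti x) (he x) (G x)
  refine ⟨S.sum N, fun n hn x hx => ?_⟩
  obtain ⟨a, ha, hxa⟩ := Set.mem_iUnion₂.mp (hS hx)
  obtain ⟨s₁, h1, h2, h3⟩ := hN a n ((Finset.single_le_sum (fun b _ => Nat.zero_le (N b)) ha).trans hn)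
  refine ⟨s₁, h1, ?_, ?_, ?_, ?_⟩
  · rw [h2]; exact hxa
  · rw [h2]; exact htU a
  · rw [h2]; exact htaff a
  · revert h3
    have key : ∀ T : X.Opens, T = genSet (tensorPow_isInvertible hL (d a)) (t a) →
        (∀ c ∈ G a, ∃ v : Γ(CohB1.tensorPow L n, ⊤),
          (puSec i v : Γ(pb i (CohB1.tensorPow L n), i ⁻¹ᵁ ⊤)) = 0 ∧
          c • res (CohB1.tensorPow L n) (le_top : genSet (tensorPow_isInvertible hL (d a)) (t a) ≤ ⊤) s₁ =
            res (CohB1.tensorPow L n) (le_top : genSet (tensorPow_isInvertible hL (d a)) (t a) ≤ ⊤) v) →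
        ∃ G' : Finset Γ(X, T), Subring.closure (Set.range (f.appLE ⊤ T le_top).hom ∪ (G' : Set Γ(X, T))) = ⊤ ∧
          ∀ c ∈ G', ∃ v, (puSec i v : Γ(pb i (CohB1.tensorPow L n), i ⁻¹ᵁ ⊤)) = 0 ∧
            c • res (CohB1.tensorPow L n) le_top s₁ = res (CohB1.tensorPow L n) (le_top : T ≤ ⊤) v := by
      rintro T rfl h
      exact ⟨G a, hG a, h⟩
    exact key _ h2

theorem generatedBy_rs {M : X.Modules} (hM : PicF.IsInvertible M) (U : X.Opens) {ι : Type*} (v : ι → Γ(M, ⊤))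
    (h : ∀ x ∈ U, ∃ a, x ∈ genSet hM (v a)) : ProjUP.GeneratedBy (M.restrict U.ι) fun a => rs U (v a) := by
  intro y
  obtain ⟨a, ha⟩ := h y.1 y.2
  have h1 : y ∈ genSet (restrict_isInvertible hM U.ι) (rs U (v a)) := by
    rw [genSet_rs hM]; exact ha
  refine eq_top_iff.mpr fun m _ => ?_
  obtain ⟨c, hc⟩ := (show GenAt (M.restrict U.ι) (rs U (v a)) (show y ∈ (⊤ : (U : Scheme.{u}).Opens) from trivial)
    from h1).2 m
  exact hc ▸ Submodule.smul_mem _ c (Submodule.subset_span ⟨a, rfl⟩)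

theorem main (f : X ⟶ Spec (CommRingCat.of k)) [IsProper f] (L : X.Modules) (hLa : CohB1.IsAmple L)
    (i : Z ⟶ X) [IsClosedImmersion i] (U : X.Opens) (hU : (U : Set X) = (Set.range i.base)ᶜ) :
    ∃ n₀ : ℕ, ∀ n : ℕ, n₀ ≤ n →
      ProjUP.GeneratedBy ((CohB1.tensorPow L n).restrict U.ι)
        (fun v : {s : ProjUP.Γm (CohB1.tensorPow L n) // ProjUP.pullSec i (CohB1.tensorPow L n) s = 0} =>
          rs U v.1) ∧
      ∀ (r : ℕ) (s : Fin (r + 1) → ProjUP.Γm (CohB1.tensorPow L n)),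
        (∀ v : ProjUP.Γm (CohB1.tensorPow L n), ProjUP.pullSec i (CohB1.tensorPow L n) v = 0 →
          ∃ c : Fin (r + 1) → k, v = ∑ j, ProjUP.toGlobal f (c j) • s j) →
        ∀ (φ : (U : Scheme.{u}) ⟶ CohB1.ProjSpace r k) (_ : φ ≫ CohB1.ProjSpace.toSpec r k = U.ι ≫ f)
          (τ : (Scheme.Modules.pullback φ).obj (Twist.twistProjSpace r k 1) ≅ (CohB1.tensorPow L n).restrict U.ι)
          (_ : ∀ j, τ.hom.app ⊤ (ProjUP.pullSec φ (Twist.twistProjSpace r k 1) (ProjUP.coord r k j)) = rs U (s j)),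
          IsImmersion φ := by
  obtain ⟨n₀, hn₀⟩ := exists_bound f hLa i U hU
  refine ⟨n₀, fun n hn => ⟨?_, fun r s hspan φ hφ τ hτ => ?_⟩⟩
  · refine generatedBy_rs (tensorPow_isInvertible hLa.1 n) U
      (fun v : {s : ProjUP.Γm (CohB1.tensorPow L n) // ProjUP.pullSec i (CohB1.tensorPow L n) s = 0} =>
        (v.1 : Γ(CohB1.tensorPow L n, ⊤))) fun x hx => ?_
    obtain ⟨s₁, h1, h2, -⟩ := hn₀ n hn x hx
    exact ⟨⟨s₁, h1⟩, h2⟩
  · exact isImmersion_of_ratios f (tensorPow_isInvertible hLa.1 n) U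
      (fun v => (puSec i v : Γ(pb i (CohB1.tensorPow L n), i ⁻¹ᵁ ⊤)) = 0) s hspan φ hφ τ hτ (hn₀ n hn)

end KerSysImmLib

end
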