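import Groth.Agent.AmpleThLib.Ample
import Groth.Agent.AmpleDevLib.Pull
import Groth.Agent.AffBlowLib.Closure
import Groth.Prelude.Def_ProjUP

/-!
# Sections of high powers of an ample module vanishing on a closed subscheme
-/

set_option autoImplicit false
set_option backward.isDefEq.respectTransparency false
set_option backward.isDefEq.respectTransparency.types false
universe u

open CategoryTheory CategoryTheory.Limits AlgebraicGeometry TopologicalSpace Opposite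
open AmpleLib AmpleThLib
open TwistLib (genSet)
open KFlatLib (pb puSec)

noncomputable section

namespace KerSysImmLib

variable {X Z : Scheme.{u}} (i : Z ⟶ X) {L : X.Modules} (hL : PicF.IsInvertible L)

include hL in
/-- Vanishing of a pulled back section through local coefficients. -/
theorem puSec_eq_zero {n : ℕ} (σ : Γ(CohB1.tensorPow L n, ⊤))
    (h : ∀ z : Z, ∃ (U : X.Opens) (e : Γ(L, U)) (r : Γ(X, U)), i z ∈ U ∧ GenOn L e ∧
      r • pS e n = res _ le_top σ ∧ i.app U r = 0) :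
    (puSec i σ : Γ(pb i (CohB1.tensorPow L n), i ⁻¹ᵁ ⊤)) = 0 := by
  refine TwistLib.mod_ext _ fun z hz => ?_
  obtain ⟨U, e, r, hzU, -, hr, hr0⟩ := h z
  have h1 := congrArg (puSec i) hr
  rw [TwistLib.puSec_smul, hr0, zero_smul] at h1
  have h2 : res (pb i (CohB1.tensorPow L n)) (show i ⁻¹ᵁ U ≤ i ⁻¹ᵁ ⊤ from fun _ _ => trivial) (puSec i σ) = 0 :=
    (TwistLib.puSec_res i (le_top : U ≤ ⊤) σ).symm.trans h1.symm
  rw [map_zero, ← AmpleLib.germ_res _ (show i ⁻¹ᵁ U ≤ i ⁻¹ᵁ ⊤ from fun _ _ => trivial) (puSec i σ) (x := z) hzU,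
    h2, map_zero]

include hL in
theorem app_coeff_eq_zero {n : ℕ} {σ : Γ(CohB1.tensorPow L n, ⊤)}
    (hσ : (puSec i σ : Γ(pb i (CohB1.tensorPow L n), i ⁻¹ᵁ ⊤)) = 0)
    {U : X.Opens} {e : Γ(L, U)} (he : GenOn L e) {r : Γ(X, U)} (hr : r • pS e n = res _ le_top σ) :
    i.app U r = 0 := by
  have h1 := congrArg (puSec i) hr
  rw [TwistLib.puSec_smul, TwistLib.puSec_res, hσ] at h1
  have h1' : i.app U r • puSec i (pS e n) = 0 := h1.trans (map_zero _)
  refine (AmpleDevLib.puSec_genOn i (pS_genOn he n) (i ⁻¹ᵁ U) le_rfl).1 ?_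
  dsimp only
  rw [res_refl, h1', zero_smul]

/-- Products with a section vanishing on `Z` vanish on `Z`. -/
theorem puSec_mul_eq_zero {m n : ℕ} (σ : Γ(CohB1.tensorPow L m, ⊤)) {τ : Γ(CohB1.tensorPow L n, ⊤)}
    (hτ : (puSec i τ : Γ(pb i (CohB1.tensorPow L n), i ⁻¹ᵁ ⊤)) = 0) :
    (puSec i (mul hL σ τ) : Γ(pb i (CohB1.tensorPow L (m + n)), i ⁻¹ᵁ ⊤)) = 0 := by
  refine puSec_eq_zero i hL _ fun z => ?_
  obtain ⟨U, e, hzU, he⟩ := TwistLib.exists_genOn hL (i z)
  obtain ⟨r, hr⟩ := exists_coeff σ (pS_genOn he m)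
  obtain ⟨s, hs⟩ := exists_coeff τ (pS_genOn he n)
  refine ⟨U, e, r * s, hzU, he, by rw [mul_res, ← hr, ← hs, mul_coeff hL he], ?_⟩
  rw [map_mul, app_coeff_eq_zero i hL hτ he hs, mul_zero]

/-- A power of a section without zeros on `Z` outside its locus vanishes on `Z`. -/
theorem exists_tPow_vanish [CompactSpace Z] [IsAffineHom i] {d : ℕ} (t : Γ(CohB1.tensorPow L d, ⊤))
    (ht : ∀ z : Z, i z ∉ genSet (tensorPow_isInvertible hL d) t) :
    ∃ M : ℕ, (puSec i (tPow hL t (M + 1)) : Γ(pb i (CohB1.tensorPow L (d * (M + 1))), i ⁻¹ᵁ ⊤)) = 0 := by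
  have hloc : ∀ z : Z, ∃ (U : X.Opens) (e : Γ(L, U)) (r : Γ(X, U)) (N : ℕ), i z ∈ U ∧ GenOn L e ∧
      r • pS e d = res _ le_top t ∧ i.app U r ^ N = 0 := fun z => by
    obtain ⟨W, e₀, hzW, he₀⟩ := TwistLib.exists_genOn hL (i z)
    obtain ⟨U, hU, hzU, hUW⟩ := exists_isAffineOpen_mem_and_subset hzW
    let e := res L hUW e₀
    have he : GenOn L e := he₀.res hUW
    obtain ⟨r, hr⟩ := exists_coeff t (pS_genOn he d)
    have hbot : Z.basicOpen (i.app U r) = ⊥ := by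
      rw [← Scheme.preimage_basicOpen, ← mem_genSet_coeff (tensorPow_isInvertible hL d) t (pS_genOn he d) hr]
      exact eq_bot_iff.mpr fun z' hz' => (ht z' hz'.1).elim
    have hloc := (hU.preimage i).isLocalization_basicOpen (i.app U r)
    haveI : Subsingleton Γ(Z, Z.basicOpen (i.app U r)) := by
      rw [hbot]; infer_instance
    obtain ⟨N, hN⟩ := (IsLocalization.subsingleton_iff (S := Γ(Z, Z.basicOpen (i.app U r)))
      (M := Submonoid.powers (i.app U r))).mp inferInstance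
    exact ⟨U, e, r, N, hzU, he, hr, hN⟩
  choose U e r N hz he hr hN using hloc
  obtain ⟨S, hS⟩ := isCompact_univ.elim_finite_subcover (fun z => ((i ⁻¹ᵁ U z : Z.Opens) : Set Z))
    (fun z => (i ⁻¹ᵁ U z).2) fun z _ => Set.mem_iUnion.mpr ⟨z, hz z⟩
  refine ⟨S.sum N, puSec_eq_zero i hL _ fun z => ?_⟩
  obtain ⟨a, ha, hza⟩ := Set.mem_iUnion₂.mp (hS (Set.mem_univ z))
  refine ⟨U a, e a, r a ^ (S.sum N + 1), hza, he a, tPow_coeff hL t (he a) (hr a) _, ?_⟩
  rw [map_pow]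
  exact pow_eq_zero_of_le ((Finset.single_le_sum (fun b _ => Nat.zero_le (N b)) ha).trans (Nat.le_succ _)) (hN a)

/-- Ratios on an affine locus are realised by sections vanishing on `Z`, in all large degrees. -/
theorem exists_sections [CompactSpace X] [QuasiSeparatedSpace X] {d : ℕ} (hd : 0 < d)
    (t : Γ(CohB1.tensorPow L d, ⊤)) (hti : (puSec i t : Γ(pb i (CohB1.tensorPow L d), i ⁻¹ᵁ ⊤)) = 0)
    {e : Γ(L, genSet (tensorPow_isInvertible hL d) t)} (he : GenOn L e)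
    (G : Finset Γ(X, genSet (tensorPow_isInvertible hL d) t)) :
    ∃ n₀ : ℕ, ∀ n, n₀ ≤ n → ∃ s₁ : Γ(CohB1.tensorPow L n, ⊤),
      (puSec i s₁ : Γ(pb i (CohB1.tensorPow L n), i ⁻¹ᵁ ⊤)) = 0 ∧
      genSet (tensorPow_isInvertible hL n) s₁ = genSet (tensorPow_isInvertible hL d) t ∧
      ∀ c ∈ G, ∃ v : Γ(CohB1.tensorPow L n, ⊤),
        (puSec i v : Γ(pb i (CohB1.tensorPow L n), i ⁻¹ᵁ ⊤)) = 0 ∧
        c • res (CohB1.tensorPow L n) le_top s₁ =
          res (CohB1.tensorPow L n) (le_top : genSet (tensorPow_isInvertible hL d) t ≤ ⊤) v := by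
  classical
  let T := genSet (tensorPow_isInvertible hL d) t
  choose N hN using fun p : (↥(insert (1 : Γ(X, T)) G)) × Fin d => exists_extend hL t (p.1.1 • pS e p.2.1)
  let N₀ := Finset.univ.sum N
  refine ⟨d * (N₀ + 2), fun n hn => ?_⟩
  obtain ⟨r, k, hk, rfl⟩ : ∃ (r : Fin d) (k : ℕ), N₀ ≤ k ∧ n = r.1 + d * k + d := by
    refine ⟨⟨(n - d) % d, Nat.mod_lt _ hd⟩, (n - d) / d, ?_, ?_⟩
    · rw [Nat.le_div_iff_mul_le hd]
      rw [Nat.mul_add, mul_two, mul_comm] at hn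
      omega
    · have h1 := Nat.mod_add_div (n - d) d
      have h2 : d ≤ n := le_trans (Nat.le_mul_of_pos_right d (by omega)) hn
      simp only
      omega
  have hext : ∀ c : ↥(insert (1 : Γ(X, T)) G), ∃ u : Γ(CohB1.tensorPow L (r.1 + d * k), ⊤),
      res _ le_top u = mul hL (c.1 • pS e r.1) (res _ (le_top : T ≤ ⊤) (tPow hL t k)) := fun c =>
    hN (c, r) k ((Finset.single_le_sum (fun p _ => Nat.zero_le (N p)) (Finset.mem_univ (c, r))).trans hk)
  choose u hu using hext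
  let one : ↥(insert (1 : Γ(X, T)) G) := ⟨1, Finset.mem_insert_self _ _⟩
  have hgenu : GenOn _ (res (CohB1.tensorPow L (r.1 + d * k)) (le_top : T ≤ ⊤) (u one)) := by
    rw [hu one, one_smul]
    exact mul_genOn hL (pS_genOn he r.1) (tPow_genOn hL t le_rfl k)
  refine ⟨mul hL (u one) t, puSec_mul_eq_zero i hL _ hti, ?_, fun c hc => ?_⟩
  · refine (genSet_mul hL (u one) t).trans (inf_eq_right.mpr fun x hx => ?_)
    exact (genAt_res _ (u one) hx).mp (hgenu.genAt hx)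
  · refine ⟨mul hL (u ⟨c, Finset.mem_insert_of_mem hc⟩) t, puSec_mul_eq_zero i hL _ hti, ?_⟩
    rw [mul_res, mul_res, hu one, hu ⟨c, Finset.mem_insert_of_mem hc⟩, one_smul]
    have h1 := mul_smul_smul hL c 1 (pS e r.1) (res _ (le_top : T ≤ ⊤) (tPow hL t k))
    rw [one_smul, mul_one] at h1
    rw [h1]
    have h2 := mul_smul_smul hL c 1 (mul hL (pS e r.1) (res _ (le_top : T ≤ ⊤) (tPow hL t k)))
      (res _ (le_top : T ≤ ⊤) t)
    rw [one_smul, mul_one] at h2
    exact h2.symm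

end KerSysImmLib

end
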